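import Mathlib
/-
Stabiliser chains of groups generated by two permutations, checked by evaluation of words.
-/
set_option autoImplicit false

namespace Cfsg.Agent.H994.TwoGen.Chain

variable {α : Type*}

/-- the value of a word: the letters 0, 1, 2, 3 are `x, y, x⁻¹, y⁻¹` -/
def ew (x y : Equiv.Perm α) : List ℕ → Equiv.Perm α
  | [] => 1
  | 0 :: w => x * ew x y w
  | 1 :: w => y * ew x y w
  | 2 :: w => x⁻¹ * ew x y w
  | _ :: w => y⁻¹ * ew x y w

theorem ew_mem (x y : Equiv.Perm α) : ∀ w : List ℕ, ew x y w ∈ Subgroup.closure ({x, y} : Set (Equiv.Perm α))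
  | [] => Subgroup.one_mem _
  | 0 :: w => Subgroup.mul_mem _ (Subgroup.subset_closure (by simp)) (ew_mem x y w)
  | 1 :: w => Subgroup.mul_mem _ (Subgroup.subset_closure (by simp)) (ew_mem x y w)
  | 2 :: w => Subgroup.mul_mem _ (Subgroup.inv_mem _ (Subgroup.subset_closure (by simp))) (ew_mem x y w)
  | (_ + 3) :: w => Subgroup.mul_mem _ (Subgroup.inv_mem _ (Subgroup.subset_closure (by simp))) (ew_mem x y w)

/-- one step of a stabiliser chain -/
theorem chain_step [Finite α] (G H : Subgroup (Equiv.Perm α)) (b : α)
    (hH : ∀ h : Equiv.Perm α, h ∈ H → h ∈ G ∧ h b = b) (ws : List (Equiv.Perm α))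
    (hws : ∀ w ∈ ws, w ∈ G) (hnd : (ws.map fun w => w b).Nodup) :
    ws.length * Nat.card H ≤ Nat.card G := by
  let f : Fin ws.length × H → G := fun p => ⟨ws.get p.1 * p.2.1, G.mul_mem (hws _ (List.get_mem _ _)) (hH _ p.2.2).1⟩
  have hf : Function.Injective f := by
    rintro ⟨i, h, hh⟩ ⟨j, k, hk⟩ hij
    have h1 : ws.get i * h = ws.get j * k := congrArg Subtype.val hij
    have hx : h b = b := (hH h hh).2
    have kx : k b = b := (hH k hk).2
    have h2 : ws.get i b = ws.get j b := by
      have := congrArg (fun σ : Equiv.Perm α => σ b) h1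
      simpa [Equiv.Perm.mul_apply, hx, kx] using this
    have h3 : i = j := by
      have hlen : (ws.map fun w => w b).length = ws.length := List.length_map _
      have h4 := (List.nodup_iff_injective_get.1 hnd)
      have h5 : (⟨i, by rw [hlen]; exact i.2⟩ : Fin (ws.map fun w => w b).length) = ⟨j, by rw [hlen]; exact j.2⟩ := by
        apply h4
        simpa using h2
      exact Fin.ext (by simpa using congrArg Fin.val h5)
    subst h3
    have h6 : h = k := mul_left_cancel h1
    subst h6
    rfl
  have := Nat.card_le_card_of_injective f hf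
  rwa [Nat.card_prod, Nat.card_eq_fintype_card (α := Fin ws.length), Fintype.card_fin] at this

/-- the elements of `K` fixing all the points of a list -/
def fixL (K : Subgroup (Equiv.Perm α)) (prev : List α) : Subgroup (Equiv.Perm α) where
  carrier := {g | g ∈ K ∧ ∀ p ∈ prev, g p = p}
  one_mem' := ⟨K.one_mem, fun _ _ => rfl⟩
  mul_mem' := by
    rintro a b ⟨ha, ha'⟩ ⟨hb, hb'⟩
    exact ⟨K.mul_mem ha hb, fun p hp => by rw [Equiv.Perm.mul_apply, hb' p hp, ha' p hp]⟩
  inv_mem' := by
    rintro a ⟨ha, ha'⟩
    exact ⟨K.inv_mem ha, fun p hp => by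
      rw [Equiv.Perm.inv_eq_iff_eq]
      exact (ha' p hp).symm⟩

theorem mem_fixL {K : Subgroup (Equiv.Perm α)} {prev : List α} {g : Equiv.Perm α} :
    g ∈ fixL K prev ↔ g ∈ K ∧ ∀ p ∈ prev, g p = p := Iff.rfl

/-- the check of a stabiliser chain -/
def ok [DecidableEq α] (x y : Equiv.Perm α) : List α → List (α × List (List ℕ)) → Bool
  | _, [] => true
  | prev, (b, ws) :: rest =>
    (ws.all fun w => prev.all fun p => decide (ew x y w p = p)) &&
      (decide ((ws.map fun w => ew x y w b).Nodup) && ok x y (b :: prev) rest)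

/-- the product of the lengths of the levels -/
def size (L : List (α × List (List ℕ))) : ℕ := (L.map fun t => t.2.length).prod

theorem card_ge [Finite α] [DecidableEq α] (x y : Equiv.Perm α) :
    ∀ (L : List (α × List (List ℕ))) (prev : List α), ok x y prev L = true →
      size L ≤ Nat.card (fixL (Subgroup.closure ({x, y} : Set (Equiv.Perm α))) prev)
  | [], prev, _ => by
    show 1 ≤ _
    exact Nat.card_pos
  | (b, ws) :: rest, prev, h => by
    rw [ok, Bool.and_eq_true, Bool.and_eq_true] at h
    obtain ⟨h1, h2, h3⟩ := h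
    have ih := card_ge x y rest (b :: prev) h3
    have hs := chain_step (fixL (Subgroup.closure ({x, y} : Set (Equiv.Perm α))) prev)
      (fixL (Subgroup.closure ({x, y} : Set (Equiv.Perm α))) (b :: prev)) b
      (by
        intro g hg
        exact ⟨⟨hg.1, fun p hp => hg.2 p (List.mem_cons_of_mem _ hp)⟩, hg.2 b List.mem_cons_self⟩)
      (ws.map fun w => ew x y w)
      (by
        intro g hg
        obtain ⟨w, hw, rfl⟩ := List.mem_map.1 hg
        refine ⟨ew_mem x y w, fun p hp => ?_⟩
        have h4 := List.all_eq_true.1 h1 w hw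
        have h5 := List.all_eq_true.1 h4 p hp
        exact of_decide_eq_true h5)
      (by
        have h6 := of_decide_eq_true h2
        rw [List.map_map]
        exact h6)
    rw [List.length_map] at hs
    calc size ((b, ws) :: rest) = ws.length * size rest := by simp [size]
      _ ≤ ws.length * _ := Nat.mul_le_mul le_rfl ih
      _ ≤ _ := hs

/-- two permutations in `K` with a chain of the right size generate `K` -/
theorem closure_eq [Finite α] [DecidableEq α] {x y : Equiv.Perm α} {K : Subgroup (Equiv.Perm α)}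
    (hx : x ∈ K) (hy : y ∈ K) (L : List (α × List (List ℕ))) (h : ok x y [] L = true)
    (hK : Nat.card K ≤ size L) : Subgroup.closure ({x, y} : Set (Equiv.Perm α)) = K := by
  have hle : Subgroup.closure ({x, y} : Set (Equiv.Perm α)) ≤ K := by
    rw [Subgroup.closure_le]
    rintro z (rfl | rfl)
    · exact hx
    · exact hy
  have h1 := card_ge x y L [] h
  have h2 : fixL (Subgroup.closure ({x, y} : Set (Equiv.Perm α))) [] =
      Subgroup.closure ({x, y} : Set (Equiv.Perm α)) := by
    ext g
    rw [mem_fixL]
    simp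
  rw [h2] at h1
  exact Subgroup.eq_of_le_of_card_ge hle (hK.trans h1)

end Cfsg.Agent.H994.TwoGen.Chain
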