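import Cfsg.Prelude.Def_Spor_Mathieu
import Cfsg.Agent.H994.TwoGen.Basic
import Cfsg.Agent.H994.TwoGen.Chain
import Cfsg.Agent.MTwelveType.SylowModel
import Cfsg.Agent.J4.M24Hom
/-
The Mathieu group M₁₂ is generated by two explicit permutations (of orders 11 and 2).
-/
set_option autoImplicit false

namespace Cfsg.Agent.H994.TwoGen.M12

open Cfsg Cfsg.Agent.H994.TwoGen Cfsg.Agent.H994.TwoGen.Chain
open Cfsg.Agent.J4.M24Hom (fn)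

/-- table of `X` -/
def tx : List ℕ := [3, 16, 9, 8, 4, 20, 13, 15, 6, 1, 5, 21, 18, 12, 23, 14, 0, 10, 2, 17, 11, 7, 22, 19]
/-- table of `X⁻¹` -/
def txi : List ℕ := [16, 9, 18, 0, 4, 10, 8, 21, 3, 2, 17, 20, 13, 6, 15, 7, 1, 19, 12, 23, 5, 11, 22, 14]
/-- table of `Y` -/
def ty : List ℕ := [18, 1, 2, 6, 9, 5, 3, 7, 8, 4, 20, 23, 12, 16, 14, 22, 13, 21, 0, 19, 10, 17, 15, 11]
/-- table of `Y⁻¹` -/
def tyi : List ℕ := [18, 1, 2, 6, 9, 5, 3, 7, 8, 4, 20, 23, 12, 16, 14, 22, 13, 21, 0, 19, 10, 17, 15, 11]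

/-- the first generator -/
def X : Equiv.Perm GolayPt where
  toFun := fn tx
  invFun := fn txi
  left_inv := by decide +kernel
  right_inv := by decide +kernel

/-- the second generator -/
def Y : Equiv.Perm GolayPt where
  toFun := fn ty
  invFun := fn tyi
  left_inv := by decide +kernel
  right_inv := by decide +kernel

theorem X_mem24 : X ∈ M24 :=
  SporadicA.GolayWalk.mem_M24_of_table X tx rfl (by decide +kernel) (by decide +kernel)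

theorem Y_mem24 : Y ∈ M24 :=
  SporadicA.GolayWalk.mem_M24_of_table Y ty rfl (by decide +kernel) (by decide +kernel)

open Cfsg.Agent.SporadicStructure.M11InvPerms Cfsg.Agent.MTwelveType.SylowModel in
theorem X_dd : ∀ p ∈ dd, X p ∈ dd := by decide +kernel

open Cfsg.Agent.SporadicStructure.M11InvPerms Cfsg.Agent.MTwelveType.SylowModel in
theorem Y_dd : ∀ p ∈ dd, Y p ∈ dd := by decide +kernel

theorem X_mem : X ∈ Spor.M12 := MTwelveType.SylowModel.mem_M12 X_mem24 X_dd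

theorem Y_mem : Y ∈ Spor.M12 := MTwelveType.SylowModel.mem_M12 Y_mem24 Y_dd

/-- the stabiliser chain -/
def chain : List (GolayPt × List (List ℕ)) :=
  [(some 0, [[], [2, 2], [0, 1], [0], [1, 0, 0, 1], [1, 0], [0, 0], [0, 0, 1], [2, 1], [1, 2], [2], [1]]),
   (some 1, [[], [2, 1, 2, 1, 2], [2, 2, 2, 1, 0], [2, 2, 2, 2, 1, 2], [0, 1, 0, 0, 0, 0], [2, 1, 0, 0, 0], [1, 0, 1,
  2, 1], [0, 0, 1, 0, 0, 0, 1], [2, 2, 1, 0, 0], [2, 2, 1, 2, 1, 0], [0, 1, 0, 1, 0]]),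
   (some 2, [[], [2, 2, 1, 0, 1, 0, 0, 1, 0, 0, 0], [2, 1, 0, 1, 2, 1, 2, 2, 1, 0], [0, 0, 1, 2, 1, 2, 1, 2, 1], [1,
  2, 2, 2, 2, 1, 0, 0, 0, 0], [0, 1, 0, 0, 1, 0, 1, 0, 1, 0, 0], [0, 1, 2, 1, 2, 1], [1, 0, 0, 0, 1, 2,
  1, 2, 1, 0], [1, 0, 1, 0, 1, 2], [2, 1, 0, 1, 0, 1, 2, 2, 2, 1]]),
   (some 3, [[], [1, 2, 1, 2, 1, 2, 1, 0, 0, 1], [2, 1, 2, 1, 0, 0, 1, 0, 1, 2, 2, 2], [2, 2, 1, 2, 1, 2, 2, 2, 2, 1,
  0, 0, 1, 0], [2, 1, 2, 1, 0, 0, 1, 0, 1, 2, 1, 2, 2], [1, 2, 2, 1, 0, 1, 0, 1, 0, 1], [0, 0, 0, 1, 2,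
  1, 2, 2, 1, 0, 1, 0], [0, 0, 0, 0, 1, 2, 2, 2, 1, 2, 1, 2, 1], [0, 0, 1, 2, 2]]),
   (some 4, [[], [1, 0, 1, 0, 0, 1, 0, 1, 2, 2, 1, 2, 2, 1, 2, 2, 2], [2, 2, 1, 2, 2, 1, 2, 2, 2, 2, 2, 1, 2], [0, 0,
  0, 1, 0, 0, 1, 0, 0, 1, 2, 1, 2, 2, 1, 2, 1], [2, 1, 2, 1, 0, 0, 0, 1, 2, 2, 2, 1, 0, 1, 0], [1, 0, 1,
  0, 0, 1, 0, 1, 0, 0, 0, 1, 0], [0, 1, 0, 0, 0, 0, 0, 1, 0, 0, 1, 0, 0], [2, 1, 2, 2, 2, 1, 2, 1, 2, 2,
  1, 2, 1]])]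

theorem chain_ok : ok X Y [] chain = true := by decide +kernel

theorem size_chain : size chain = 95040 := by decide +kernel

theorem closure_eq : Subgroup.closure ({X, Y} : Set (Equiv.Perm GolayPt)) = Spor.M12 :=
  Chain.closure_eq X_mem Y_mem chain chain_ok (by rw [size_chain, MTwelveType.SylowModel.card_M12])

/-- The Mathieu group M₁₂ is generated by two elements. -/
theorem twoGen {G : Type*} [Group G] (h : Cfsg.Spor.IsoM12 G) :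
    ∃ x y : G, Subgroup.closure ({x, y} : Set G) = ⊤ := by
  obtain ⟨e⟩ := h
  exact of_equiv e (of_closure closure_eq)

end Cfsg.Agent.H994.TwoGen.M12
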