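import Cfsg.Agent.H994.TwoGen.Basic
import Cfsg.Agent.H994.TwoGen.Words
import Cfsg.Agent.HSType.Letters
import Cfsg.Agent.HN.AutHS
/-
The Higman–Sims group is generated by two elements.
-/
set_option autoImplicit false

namespace Cfsg.Agent.H994.TwoGen.HS

open Cfsg Cfsg.Agent.H994.TwoGen Cfsg.Agent.H994.TwoGen.Words Cfsg.Agent.HSType.Letters

/-- the first element, as a word in the letters, and its inverse -/
def wX : List ℕ := [9, 0]
/-- the inverse of the first element -/
def wXi : List ℕ := [1, 9]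
/-- the second element, as a word in the letters, and its inverse -/
def wY : List ℕ := [10, 5]
/-- the inverse of the second element -/
def wYi : List ℕ := [6, 11]

theorem chk_X : chkOne (wX ++ wXi) = true := by decide +kernel
theorem chk_Y : chkOne (wY ++ wYi) = true := by decide +kernel

/-- the group generated by the two elements -/
def H : Subgroup (Equiv.Perm (Fin 100)) := Subgroup.closure {val gl wX, val gl wY}

theorem mem {w : List ℕ} {k : ℕ} (h : chkOne (expand wX wY wXi wYi w ++ [k]) = true) : gl k ∈ H :=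
  mem_of_word gl (ev_eq_one chk_X) (ev_eq_one chk_Y) (ev_eq_one h)

theorem mem_0 : gl 0 ∈ H := mem (w := [0, 0]) (by decide +kernel)
theorem mem_2 : gl 2 ∈ H := mem (w := [1, 1, 2, 3, 3, 0, 0, 1, 2, 2, 3, 3, 2, 1, 1]) (by decide +kernel)
theorem mem_3 : gl 3 ∈ H := mem (w := [1, 1, 2, 2, 3, 0, 0]) (by decide +kernel)
theorem mem_5 : gl 5 ∈ H := mem (w := [0, 0, 1, 0, 0, 1, 0, 0, 1]) (by decide +kernel)
theorem mem_7 : gl 7 ∈ H := mem (w := [1, 0, 0, 1, 0, 0, 1, 0, 0]) (by decide +kernel)
theorem mem_9 : gl 9 ∈ H := mem (w := [0, 0, 0]) (by decide +kernel)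
theorem mem_10 : gl 10 ∈ H := mem (w := [1, 2, 2, 1, 0, 0, 1, 1, 1]) (by decide +kernel)

theorem P_le : P ≤ H := by
  rw [P, Subgroup.closure_le]
  rintro _ (rfl | rfl | rfl | rfl | rfl | rfl | rfl)
  · exact mem_0
  · exact mem_2
  · exact mem_3
  · exact mem_5
  · exact mem_7
  · exact mem_9
  · exact mem_10

theorem H_le : H ≤ P := by
  rw [H, Subgroup.closure_le]
  rintro _ (rfl | rfl)
  · exact ev_mem_P wX (by decide)
  · exact ev_mem_P wY (by decide)

theorem H_eq : Subgroup.closure ({val gl wX, val gl wY} : Set (Equiv.Perm (Fin 100))) = Cfsg.Agent.HN.HS100.Q :=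
  (le_antisymm H_le P_le).trans P_eq

/-- The Higman–Sims group is generated by two elements. -/
theorem twoGen {G : Type*} [Group G] (h : Cfsg.Spor.IsoHS G) :
    ∃ x y : G, Subgroup.closure ({x, y} : Set G) = ⊤ := by
  obtain ⟨e⟩ := h
  obtain ⟨⟨f⟩, -⟩ := Cfsg.Agent.HN.AutHS.nonempty_Q
  exact of_equiv (e.trans f.symm) (of_closure H_eq)

end Cfsg.Agent.H994.TwoGen.HS
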