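import Cfsg.Prelude.Def_Spor_J1
import Cfsg.Agent.H994.TwoGen.Basic
set_option autoImplicit false

namespace Cfsg.Agent.H994.TwoGen.J1

/-- The Janko group J₁ is generated by two elements. -/
theorem twoGen {G : Type*} [Group G] (h : Cfsg.Spor.IsoJ1 G) :
    ∃ x y : G, Subgroup.closure ({x, y} : Set G) = ⊤ := by
  obtain ⟨e⟩ := h
  exact of_equiv e (of_closure (a := Cfsg.Spor.jankoX) (b := Cfsg.Spor.jankoY) rfl)

end Cfsg.Agent.H994.TwoGen.J1
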