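import Cfsg.Agent.H994.TwoGen.Basic
import Cfsg.Agent.H994.TwoGen.Words
import Cfsg.Agent.J2.HundredGens
import Cfsg.Agent.S1619
/-
The Hall–Janko group J₂ is generated by two elements.
-/
set_option autoImplicit false

namespace Cfsg.Agent.H994.TwoGen.J2

open Cfsg Cfsg.Agent.H994.TwoGen Cfsg.Agent.H994.TwoGen.Words Cfsg.Agent.J2.HundredGens
  Cfsg.Agent.SporadicA.J2Hundred

/-- the first element, as a word in the letters -/
def wX : List ℕ := [4, 3, 1]
/-- the inverse of the first element -/
def wXi : List ℕ := [1, 3, 4]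
/-- the second element, as a word in the letters -/
def wY : List ℕ := [3, 2]
/-- the inverse of the second element -/
def wYi : List ℕ := [2, 3]

theorem chk_X : val gen (wX ++ wXi) = 1 := pw_eq (L := wX ++ wXi) (M := []) (by decide +kernel)
theorem chk_Y : val gen (wY ++ wYi) = 1 := pw_eq (L := wY ++ wYi) (M := []) (by decide +kernel)

/-- the group generated by the two elements -/
def H : Subgroup (Equiv.Perm (Fin 100)) := Subgroup.closure {val gen wX, val gen wY}

theorem mem {w : List ℕ} {k : ℕ} (h : chk (expand wX wY wXi wYi w ++ [k]) [] = true) : gen k ∈ H :=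
  mem_of_word gen chk_X chk_Y (pw_eq h)

theorem mem_0 : gen 0 ∈ H := mem (w := [1, 1, 1, 1]) (by decide +kernel)
theorem mem_1 : gen 1 ∈ H := mem (w := [0, 0, 0]) (by decide +kernel)
theorem mem_2 : gen 2 ∈ H := mem (w := [0, 1, 0, 1, 0, 0, 0]) (by decide +kernel)
theorem mem_3 : gen 3 ∈ H := mem (w := [1, 0, 1, 0, 1, 0, 0, 0]) (by decide +kernel)
theorem mem_4 : gen 4 ∈ H := mem (w := [0, 1, 0, 1, 0, 1]) (by decide +kernel)

theorem G_le : G ≤ H := by
  rw [G, Subgroup.closure_le]
  rintro _ (rfl | rfl | rfl | rfl | rfl)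
  · exact mem_0
  · exact mem_1
  · exact mem_2
  · exact mem_3
  · exact mem_4

theorem H_le : H ≤ G := by
  rw [H, Subgroup.closure_le]
  rintro _ (rfl | rfl)
  · exact pw_mem wX
  · exact pw_mem wY

theorem H_eq : Subgroup.closure ({val gen wX, val gen wY} : Set (Equiv.Perm (Fin 100))) = G :=
  le_antisymm H_le G_le

/-- The Hall–Janko group is generated by two elements. -/
theorem twoGen {G : Type*} [Group G] (h : Cfsg.Spor.IsoJ2 G) :
    ∃ x y : G, Subgroup.closure ({x, y} : Set G) = ⊤ := by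
  obtain ⟨e⟩ := h
  obtain ⟨f⟩ := J2_iso Cfsg.Agent.S1619.result.2.2.2
  exact of_equiv (e.trans f) (of_closure H_eq)

end Cfsg.Agent.H994.TwoGen.J2
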