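import Cfsg.Prelude.Def_Spor_Mathieu
import Cfsg.Agent.H994.TwoGen.Basic
import Cfsg.Agent.H994.TwoGen.Chain
import Cfsg.Agent.SporadicA.MathieuRecog
import Cfsg.Agent.J4.M24Hom
/-
The Mathieu group M₂₃ is generated by two explicit permutations (of orders 23 and 2).
-/
set_option autoImplicit false

namespace Cfsg.Agent.H994.TwoGen.M23

open Cfsg Cfsg.Agent.H994.TwoGen Cfsg.Agent.H994.TwoGen.Chain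
open Cfsg.Agent.J4.M24Hom (fn)

/-- table of `X` -/
def tx : List ℕ := [10, 3, 0, 4, 5, 17, 18, 19, 11, 6, 8, 9, 14, 7, 15, 13, 21, 16, 12, 22, 1, 2, 20, 23]
/-- table of `X⁻¹` -/
def txi : List ℕ := [2, 20, 21, 1, 3, 4, 9, 13, 10, 11, 0, 8, 18, 15, 12, 14, 17, 5, 6, 7, 22, 16, 19, 23]
/-- table of `Y` -/
def ty : List ℕ := [0, 1, 2, 3, 12, 5, 9, 10, 16, 6, 7, 22, 4, 18, 14, 19, 8, 17, 13, 15, 21, 20, 11, 23]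
/-- table of `Y⁻¹` -/
def tyi : List ℕ := [0, 1, 2, 3, 12, 5, 9, 10, 16, 6, 7, 22, 4, 18, 14, 19, 8, 17, 13, 15, 21, 20, 11, 23]

/-- the first generator -/
def X : Equiv.Perm GolayPt where
  toFun := fn tx
  invFun := fn txi
  left_inv := by decide +kernel
  right_inv := by decide +kernel

/-- the second generator -/
def Y : Equiv.Perm GolayPt where
  toFun := fn ty
  invFun := fn tyi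
  left_inv := by decide +kernel
  right_inv := by decide +kernel

theorem X_mem24 : X ∈ M24 :=
  SporadicA.GolayWalk.mem_M24_of_table X tx rfl (by decide +kernel) (by decide +kernel)

theorem Y_mem24 : Y ∈ M24 :=
  SporadicA.GolayWalk.mem_M24_of_table Y ty rfl (by decide +kernel) (by decide +kernel)

theorem X_mem : X ∈ Spor.M23 := (SporadicA.MathieuRecog.mem_M23_iff _).2 ⟨X_mem24, by decide +kernel⟩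

theorem Y_mem : Y ∈ Spor.M23 := (SporadicA.MathieuRecog.mem_M23_iff _).2 ⟨Y_mem24, by decide +kernel⟩

/-- the stabiliser chain -/
def chain : List (GolayPt × List (List ℕ)) :=
  [(some 0, [[], [0, 1, 2, 2], [2], [0, 0, 1, 2, 2], [2, 2, 2, 1, 0, 0], [2, 2, 1, 0, 0], [0, 0, 0, 0, 0], [1, 0], [0,
  0], [0, 0, 0, 0], [0], [0, 0, 0], [0, 1, 2, 1, 0], [2, 1, 0], [2, 1, 0, 1, 0], [1, 0, 1, 0], [1, 0, 0],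
  [2, 1, 0, 0], [1, 2, 1, 0], [0, 1, 0], [1, 2, 2], [2, 2], [1, 0, 0, 0]]),
   (some 1, [[], [0, 1, 2], [2, 2, 1, 2, 1, 0, 1, 0, 0, 0], [2, 2, 1, 2, 2, 1, 2], [2, 2, 1, 0, 1, 2, 2, 2, 2], [0, 0,
  0, 0, 1, 2, 2, 2, 2], [2, 1, 0, 0, 1, 0, 1, 0], [0, 0, 1, 0, 0, 1, 2, 2, 1, 0], [0, 1, 0, 0, 0, 1, 2,
  1, 0, 0], [2, 1, 2, 1, 2, 2, 1, 0], [1, 0, 1, 0, 0, 1, 0, 0], [2, 2, 1, 2, 2, 2], [0, 0, 0, 1, 0, 0],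
  [2, 2, 2, 1, 2, 1, 2, 1, 2], [2, 2, 2, 2, 2, 2, 1, 2, 1, 0], [1, 0, 0, 1, 0, 0, 1, 2, 2, 1, 0], [2, 2,
  2, 1, 0, 1, 2, 2, 1, 0], [1, 0, 0, 0, 1, 0, 0], [2, 1, 0, 1, 0, 1, 0, 0, 0, 0], [1, 0, 0, 1, 0, 1, 0,
  0, 0], [0, 0, 1, 0, 1, 0, 0, 0], [0, 1, 0, 0, 1, 0, 0]]),
   (some 2, [[], [2, 1, 0, 1, 0, 1, 0, 1, 2, 1, 2, 2], [2, 1, 2, 2, 1, 0, 0, 0], [2, 1, 2, 1, 0, 1, 0, 0, 1, 0, 1, 0,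
  1, 0], [0, 1, 0, 0, 0, 0, 0, 1, 0, 1, 2, 1, 0], [1, 2, 1, 0, 0, 0, 0, 1, 2, 2, 2, 2, 2, 2], [0, 1, 0,
  0, 1, 2, 2, 1, 2, 1, 2, 1, 0], [0, 1, 2, 1, 2, 1, 2, 2, 2, 1, 2, 2], [2, 1, 0, 0, 0, 0, 1, 2, 2, 2, 2,
  2, 2], [0, 1, 2, 2, 1, 2, 2, 2, 1, 2, 2], [1, 2, 1, 2, 2, 1, 0, 0, 0], [1, 0, 1, 0, 0, 0, 1, 2, 2, 2,
  1, 2], [2, 2, 2, 1, 0, 1, 0, 1, 2, 1, 2, 2, 1, 2, 2], [0, 1, 0, 0, 1, 2, 1, 2, 1, 2, 2], [1, 0, 1, 0,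
  0, 1, 2, 2, 1, 2, 1, 2, 1, 0], [0, 0, 1, 0, 1, 0, 1, 2, 2, 1, 2], [0, 1, 0, 0, 0, 1, 2, 2, 2, 1, 2],
  [1, 0, 1, 0, 0, 1, 2, 1, 2, 1, 2, 2], [1, 0, 0, 1, 0, 0, 0, 1, 0, 0, 1, 2], [0, 0, 1, 0, 0, 0, 1, 0, 0,
  1, 2], [1, 0, 1, 2, 2, 1, 2, 2, 2, 1, 2, 2]]),
   (some 3, [[], [1, 2, 2, 2, 2, 1, 2, 2, 2, 1, 0, 0, 0, 1, 0, 0, 0, 0], [2, 1, 2, 1, 2, 1, 0, 0, 1, 2, 2, 2, 2, 2, 2,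
  1, 0], [0, 1, 2, 2, 2, 1, 0, 1, 2, 1, 0, 0], [2, 2, 2, 2, 1, 2, 2, 2, 2, 2, 1, 2, 2, 2, 2, 2, 1, 0],
  [0, 0, 0, 0, 0, 1, 0, 0, 0, 0, 1, 2, 1, 2], [1, 0, 1, 2, 2, 2, 1, 0, 1, 2, 1, 0, 0], [1, 2, 2, 2, 2, 1,
  2, 2, 2, 2, 2, 1, 2, 2, 2, 2, 2, 1, 0], [1, 0, 1, 2, 1, 2, 2, 1, 0, 1, 2, 1, 0, 0], [2, 2, 2, 2, 1, 2,
  2, 2, 1, 0, 0, 0, 1, 0, 0, 0, 0], [1, 2, 2, 1, 0, 1, 2, 1, 0, 0, 0, 1, 2], [2, 1, 0, 0, 0, 0, 0, 0, 1,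
  2, 2, 1, 0, 1, 0, 1, 0], [1, 0, 1, 0, 0, 0, 0, 1, 0, 0, 0, 0, 1, 2, 2], [1, 0, 0, 0, 0, 0, 1, 0, 0, 0,
  0, 1, 2, 1, 2], [0, 0, 0, 0, 0, 0, 0, 1, 2, 2, 2, 2, 2, 2, 2], [2, 2, 1, 0, 1, 2, 1, 0, 0, 0, 1, 2],
  [0, 1, 0, 0, 0, 0, 1, 0, 0, 0, 0, 1, 2, 2], [0, 1, 0, 1, 2, 2, 2, 2, 1, 2, 2, 2, 2, 2], [1, 0, 1, 0, 1,
  2, 2, 2, 2, 1, 2, 2, 2, 2, 2], [0, 1, 2, 1, 2, 2, 1, 0, 1, 2, 1, 0, 0]]),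
   (some 4, [[], [0, 1, 0, 1, 2, 2, 1, 0, 0, 1, 2, 2], [0, 1, 2, 1, 0, 1, 2], [1, 2, 2, 1, 0, 0, 1, 2, 1, 2, 1, 2, 2,
  2, 2, 1, 0, 1, 0, 1, 0], [1, 0, 1, 0, 1, 2, 2, 1, 0, 0, 1, 2, 2], [0, 1, 2, 1, 0, 1, 2, 1], [1, 0, 1,
  0, 1, 2, 2, 1, 0, 0, 1, 2, 2, 1], [1], [1, 0, 0, 1, 2, 2, 1, 0, 0, 1, 2, 1, 2], [2, 2, 1, 0, 0, 1, 2,
  1, 0, 0, 1, 0, 0, 0, 1, 2, 1, 0, 1, 0, 1, 0], [2, 2, 1, 0, 0, 1, 2, 1, 2, 1, 2, 2, 2, 2, 1, 0, 1, 0, 1,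
  0], [0, 0, 1, 2, 2, 1, 0, 0, 1, 2, 1, 2], [1, 2, 2, 1, 0, 0, 1, 2, 1, 0, 0, 1, 0, 0, 0, 1, 2, 1, 0, 1,
  0, 1, 0], [1, 0, 0, 1, 2, 2, 1, 0, 0, 1, 2, 1, 2, 1], [0, 0, 1, 2, 2, 1, 0, 0, 1, 2, 1, 2, 1], [0, 1,
  0, 1, 2, 2, 1, 0, 0, 1, 2, 2, 1]]),
   (some 5, [[], [1, 2, 1, 0, 1, 0, 1, 2, 1, 2, 1, 0, 1, 0, 1, 2, 2, 1, 0], [2, 1, 0, 0, 1, 2, 1, 2, 1, 0, 1, 0, 1, 2,
  1, 2, 1, 0, 1]])]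

theorem chain_ok : ok X Y [] chain = true := by decide +kernel

theorem size_chain : size chain = 10200960 := by decide +kernel

theorem closure_eq : Subgroup.closure ({X, Y} : Set (Equiv.Perm GolayPt)) = Spor.M23 :=
  Chain.closure_eq X_mem Y_mem chain chain_ok (by rw [size_chain, SporadicA.MathieuRecog.card_M23])

/-- The Mathieu group M₂₃ is generated by two elements. -/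
theorem twoGen {G : Type*} [Group G] (h : Cfsg.Spor.IsoM23 G) :
    ∃ x y : G, Subgroup.closure ({x, y} : Set G) = ⊤ := by
  obtain ⟨e⟩ := h
  exact of_equiv e (of_closure closure_eq)

end Cfsg.Agent.H994.TwoGen.M23
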