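import Cfsg.Agent.H994.TwoGen.Basic
import Cfsg.Agent.H994.TwoGen.Words
import Cfsg.Agent.McLType.Model
/-
The McLaughlin group is generated by two elements.
-/
set_option autoImplicit false

namespace Cfsg.Agent.H994.TwoGen.McL

open Cfsg Cfsg.Agent.H994.TwoGen Cfsg.Agent.H994.TwoGen.Words Cfsg.Agent.McLType.Model

/-- the first element, as a word in the seven involutions -/
def wX : List (Fin 7) := [3, 5, 4]
/-- the second element, as a word in the seven involutions -/
def wY : List (Fin 7) := [0, 6]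

/-- words for the seven involutions in the two elements -/
def W : Fin 7 → List ℕ
  | 0 => [0, 1, 1, 2, 1, 1, 0, 1, 1, 2]
  | 1 => [1, 1, 0, 1, 1, 2, 1, 1]
  | 2 => [2, 3, 3, 2, 2, 1, 0, 0, 0, 0, 1, 0, 0, 1, 1, 0]
  | 3 => [2, 3, 3, 0, 3, 3, 0, 1, 1, 2, 1, 1, 2, 1, 1, 0]
  | 4 => [3, 2, 3, 3, 0, 3, 3, 2, 1, 1, 0, 3, 0, 1, 1, 2, 3]
  | 5 => [2, 2, 3, 3, 2, 3, 3, 2, 2, 1, 1, 0, 0, 1, 1, 2, 1, 1, 0, 0]
  | 6 => [3, 0, 1, 1, 2, 1, 1, 0, 1, 1, 2]

theorem chk_X : idCheck (wX ++ wX.reverse) = true := by decide +kernel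
theorem chk_Y : idCheck (wY ++ wY.reverse) = true := by decide +kernel
theorem chk_0 : idCheck (expand wX wY wX.reverse wY.reverse (W 0) ++ [0]) = true := by decide +kernel
theorem chk_1 : idCheck (expand wX wY wX.reverse wY.reverse (W 1) ++ [1]) = true := by decide +kernel
theorem chk_2 : idCheck (expand wX wY wX.reverse wY.reverse (W 2) ++ [2]) = true := by decide +kernel
theorem chk_3 : idCheck (expand wX wY wX.reverse wY.reverse (W 3) ++ [3]) = true := by decide +kernel
theorem chk_4 : idCheck (expand wX wY wX.reverse wY.reverse (W 4) ++ [4]) = true := by decide +kernel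
theorem chk_5 : idCheck (expand wX wY wX.reverse wY.reverse (W 5) ++ [5]) = true := by decide +kernel
theorem chk_6 : idCheck (expand wX wY wX.reverse wY.reverse (W 6) ++ [6]) = true := by decide +kernel

theorem gen : ∃ x y : Cfsg.Agent.McLType.X275.G1, Subgroup.closure ({x, y} : Set _) = ⊤ := by
  refine gen_of_words m closure_m (word_m chk_X) (word_m chk_Y) W ?_
  intro k
  match k with
  | 0 => exact word_m chk_0
  | 1 => exact word_m chk_1
  | 2 => exact word_m chk_2
  | 3 => exact word_m chk_3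
  | 4 => exact word_m chk_4
  | 5 => exact word_m chk_5
  | 6 => exact word_m chk_6

/-- The McLaughlin group is generated by two elements. -/
theorem twoGen {G : Type*} [Group G] (h : Cfsg.Spor.IsoMcL G) :
    ∃ x y : G, Subgroup.closure ({x, y} : Set G) = ⊤ := by
  obtain ⟨e⟩ := h
  obtain ⟨e'⟩ := Cfsg.Agent.McLType.X275.isoMcL_G1
  exact of_equiv (e.trans e'.symm) gen

end Cfsg.Agent.H994.TwoGen.McL
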