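import Cfsg.Agent.H994.TwoGen.Basic
import Cfsg.Agent.SporadicRecognition.SuzOrder
/-
The sporadic Suzuki group is generated by `x = (bfg)(de)` (of order 15) and `y = (bc)e` (of order 6): the powers of
`y` contain `e, bc`, those of `x` contain `bfg, de`; then `d`, `cdc`, `a = (dcdc)²`, `bab`, `ab = (abab)³`, `b`, `c`,
`fg`, and finally `f` by an explicit word.
-/
set_option autoImplicit false
set_option maxRecDepth 100000
set_option exponentiation.threshold 4000

namespace Cfsg.Agent.H994.TwoGen.Suz

open Cfsg.Spor Cfsg.Agent.H994.TwoGen Cfsg.Agent.Lib.PermNet Cfsg.Agent.Lib.PermNetOrbit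
  Cfsg.Agent.SporadicRecognition.SuzPhi Cfsg.Agent.SporadicRecognition.SuzOrder

theorem eq_of {v w : List Suz.Gen} (h : checkEq 11 (wd v) (wd w) = true) : el v = el w :=
  φ_injective (by rw [φ_el, φ_el]; exact wperm_eq_of_checkEq (wd_ok v) (wd_ok w) h)

theorem el_append (v w : List Suz.Gen) : el (v ++ w) = el v * el w := by simp [el]

/-- first generator -/
def X : List Suz.Gen := [.b, .f, .g, .d, .e]
/-- second generator -/
def Y : List Suz.Gen := [.b, .c, .e]

/-- the group they generate -/
def H : Subgroup Suz := Subgroup.closure {el X, el Y}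

theorem hX : el X ∈ H := Subgroup.subset_closure (by simp)
theorem hY : el Y ∈ H := Subgroup.subset_closure (by simp)

theorem app {v w : List Suz.Gen} (hv : el v ∈ H) (hw : el w ∈ H) : el (v ++ w) ∈ H := by
  rw [el_append]; exact H.mul_mem hv hw

theorem of_eq {u v : List Suz.Gen} (hu : el u ∈ H) (h : checkEq 11 (wd v) (wd u) = true) : el v ∈ H := by
  rw [eq_of h]; exact hu

theorem he : el [.e] ∈ H := of_eq (app (app hY hY) hY) (by decide +kernel)
theorem hcb : el [.c, .b] ∈ H := of_eq (app hY hY) (by decide +kernel)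
theorem hbc : el [.b, .c] ∈ H := of_eq (app hcb hcb) (by decide +kernel)
theorem hx3 : el (X ++ X ++ X) ∈ H := app (app hX hX) hX
theorem hbfg : el [.b, .f, .g] ∈ H := of_eq (app hx3 hx3) (by decide +kernel)
theorem hde : el [.d, .e] ∈ H := of_eq (app (app (app hx3 hx3) hx3) hX) (by decide +kernel)
theorem hd : el [.d] ∈ H := of_eq (app hde he) (by decide +kernel)
theorem hcdc : el [.c, .d, .c] ∈ H := of_eq (app (app hcb hd) hbc) (by decide +kernel)
theorem hdcdc : el [.d, .c, .d, .c] ∈ H := app hd hcdc
theorem ha : el [.a] ∈ H := of_eq (app hdcdc hdcdc) (by decide +kernel)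
theorem hbab : el [.b, .a, .b] ∈ H := of_eq (app (app hbc ha) hcb) (by decide +kernel)
theorem habab : el [.a, .b, .a, .b] ∈ H := app ha hbab
theorem hab : el [.a, .b] ∈ H := of_eq (app (app habab habab) habab) (by decide +kernel)
theorem hb : el [.b] ∈ H := of_eq (app ha hab) (by decide +kernel)
theorem hc : el [.c] ∈ H := of_eq (app hb hbc) (by decide +kernel)
theorem hfg : el [.f, .g] ∈ H := of_eq (app hb hbfg) (by decide +kernel)
theorem hgf : el [.g, .f] ∈ H := of_eq (app (app hfg hfg) hfg) (by decide +kernel)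
theorem hf : el [.f] ∈ H :=
  of_eq (app hb (app hgf (app hb (app hfg (app hb (app ha (app hb (app hfg (app hb (app ha hb))))))))))
    (by decide +kernel)
theorem hg : el [.g] ∈ H := of_eq (app hf hfg) (by decide +kernel)

theorem H_eq : H = ⊤ := by
  rw [eq_top_iff, ← PresentedGroup.closure_range_of, Subgroup.closure_le]
  rintro _ ⟨k, rfl⟩
  have h1 : ∀ k : Suz.Gen, el [k] = PresentedGroup.of k := fun k => by simp [el]
  rw [← h1 k]
  cases k
  · exact ha
  · exact hb
  · exact hc
  · exact hd
  · exact he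
  · exact hf
  · exact hg

/-- The sporadic Suzuki group is generated by two elements. -/
theorem twoGen {G : Type*} [Group G] (h : Cfsg.Spor.IsoSuz G) :
    ∃ x y : G, Subgroup.closure ({x, y} : Set G) = ⊤ := by
  obtain ⟨e⟩ := h
  exact of_equiv e ⟨el X, el Y, H_eq⟩

end Cfsg.Agent.H994.TwoGen.Suz
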